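import Cfsg.Agent.Helper61.Sr.Basic

/-!
# S3572 piece (E1_of), for helper61: all non-trivial basic sets have the same size and the same
number of rotations
-/

set_option autoImplicit false
set_option linter.unusedSectionVars false
set_option linter.unusedVariables false

namespace Cfsg.Agent.Helper48.Sr

open Finset DihedralGroup Cfsg.Agent.Helper61.Dih Cfsg.Agent.Helper61.Sr

variable {n : ℕ} [NeZero n] (S : SRing (DihedralGroup n))

/-- the key step: a prime `l > 2n` carrying a unit rotation of `cls y` to a rotation of `cls y'`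
gives an `S`-set `T'` of the same size as `cls y` which contains `cls y'` -/
theorem E1_step (hn : 3 ≤ n)
    (hRC : ∀ T : Finset (DihedralGroup n), S.IsSet T → T.Nonempty → (1 : DihedralGroup n) ∉ T →
      ∀ x : ZMod n, x ≠ 0 → ∃ u : (ZMod n)ˣ, ∃ i ∈ rotPart T, (u : ZMod n) * i = x)
    (hPL : ∀ T : Finset (DihedralGroup n), S.IsSet T → ∀ l : ℕ, l.Prime → 2 * n < l →
      ∃ T' : Finset (DihedralGroup n), S.IsSet T' ∧
        (∀ x : ZMod n, x ∈ rotPart T' ↔ ∃ i ∈ rotPart T, l • i = x) ∧ T'.card = T.card)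
    (y y' : DihedralGroup n) (hy : y ≠ 1) (hy' : y' ≠ 1) :
    ∃ (l : ℕ) (T' : Finset (DihedralGroup n)), l.Prime ∧ 2 * n < l ∧ S.IsSet T' ∧
      (∀ x : ZMod n, x ∈ rotPart T' ↔ ∃ i ∈ rotPart (S.cls y), l • i = x) ∧
      T'.card = (S.cls y).card ∧ S.cls y' ⊆ T' := by
  classical
  have h1ne : (1 : ZMod n) ≠ 0 := by
    have : Fact (1 < n) := ⟨by omega⟩
    exact one_ne_zero
  -- unit rotations in the two classes
  obtain ⟨u, i, hi, hui⟩ := hRC (S.cls y) (isSet_cls S y) ⟨y, self_mem_cls S y⟩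
    (one_notMem_cls S hy) 1 h1ne
  obtain ⟨u', i', hi', hui'⟩ := hRC (S.cls y') (isSet_cls S y') ⟨y', self_mem_cls S y'⟩
    (one_notMem_cls S hy') 1 h1ne
  have hiu : IsUnit i := IsUnit.of_mul_eq_one (u : ZMod n) (by rw [mul_comm]; exact hui)
  have hiu' : IsUnit i' := IsUnit.of_mul_eq_one (u' : ZMod n) (by rw [mul_comm]; exact hui')
  -- Dirichlet
  have hau : IsUnit (i' * (u : ZMod n)) := hiu'.mul u.isUnit
  obtain ⟨l, hl2n, hlp, hl⟩ := Nat.forall_exists_prime_gt_and_eq_mod hau (2 * n)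
  obtain ⟨T', hT', hrot, hcard⟩ := hPL (S.cls y) (isSet_cls S y) l hlp hl2n
  refine ⟨l, T', hlp, hl2n, hT', hrot, hcard, ?_⟩
  -- `r i' ∈ T'`
  have hri' : r i' ∈ T' := by
    rw [← mem_rotPart, hrot]
    refine ⟨i, hi, ?_⟩
    rw [nsmul_eq_mul, hl, mul_assoc, hui, mul_one]
  -- `cls y' ⊆ T'`
  intro z hz
  rw [mem_cls] at hz
  have hyi' : S.rel y' (r i') := (mem_cls S y' (r i')).mp (mem_rotPart.mp hi')
  exact (hT' (r i') z (S.trans (S.symm hyi') hz)).mp hri'

/-- (E1) -/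
theorem E1_of (hn : 3 ≤ n) (hS : S.IsPrim)
    (hRC : ∀ T : Finset (DihedralGroup n), S.IsSet T → T.Nonempty → (1 : DihedralGroup n) ∉ T →
      ∀ x : ZMod n, x ≠ 0 → ∃ u : (ZMod n)ˣ, ∃ i ∈ rotPart T, (u : ZMod n) * i = x)
    (hPL : ∀ T : Finset (DihedralGroup n), S.IsSet T → ∀ l : ℕ, l.Prime → 2 * n < l →
      ∃ T' : Finset (DihedralGroup n), S.IsSet T' ∧
        (∀ x : ZMod n, x ∈ rotPart T' ↔ ∃ i ∈ rotPart T, l • i = x) ∧ T'.card = T.card)
    (y y' : DihedralGroup n) (hy : y ≠ 1) (hy' : y' ≠ 1) :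
    (S.cls y').card = (S.cls y).card ∧
      (rotPart (S.cls y')).card = (rotPart (S.cls y)).card := by
  classical
  obtain ⟨l, T', hlp, hl2n, hT', hrot, hcard, hsub⟩ := E1_step S hn hRC hPL y y' hy hy'
  obtain ⟨l₂, T₂, _, _, _, _, hcard₂, hsub₂⟩ := E1_step S hn hRC hPL y' y hy' hy
  have hle : (S.cls y').card ≤ (S.cls y).card := hcard ▸ Finset.card_le_card hsub
  have hle₂ : (S.cls y).card ≤ (S.cls y').card := hcard₂ ▸ Finset.card_le_card hsub₂
  have heq : (S.cls y').card = (S.cls y).card := le_antisymm hle hle₂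
  refine ⟨heq, ?_⟩
  -- `cls y' = T'`
  have hTeq : S.cls y' = T' :=
    Finset.eq_of_subset_of_card_le hsub (by rw [hcard, heq])
  -- `rotPart T'` is the image of `rotPart (cls y)` under the injective map `l • ·`
  have hcop : Nat.Coprime l n := by
    rw [Nat.coprime_comm]
    apply Nat.Coprime.symm
    rw [Nat.Prime.coprime_iff_not_dvd hlp]
    intro hdvd
    have := Nat.le_of_dvd (by omega) hdvd
    omega
  have hinj : Function.Injective (fun i : ZMod n => l • i) := by
    intro a b hab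
    simp only [nsmul_eq_mul] at hab
    have hu : IsUnit ((l : ℕ) : ZMod n) := (ZMod.isUnit_iff_coprime l n).mpr hcop
    exact hu.mul_left_cancel hab
  have himg : rotPart T' = (rotPart (S.cls y)).image (fun i : ZMod n => l • i) := by
    ext x
    rw [hrot, Finset.mem_image]
  rw [hTeq, himg, Finset.card_image_of_injective _ hinj]

end Cfsg.Agent.Helper48.Sr
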