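import Cfsg.Agent.Helper61.Sr.Basic

/-!
# S3572 piece (R1_of), core (with Wielandt's counting lemma T5 as a hypothesis), for helper61
-/

set_option autoImplicit false
set_option linter.unusedSectionVars false
set_option linter.unusedVariables false

namespace Cfsg.Agent.Helper48.Sr

open Finset DihedralGroup Cfsg.Agent.Helper61.Dih Cfsg.Agent.Helper61.Sr

variable {n : ℕ} [NeZero n] (S : SRing (DihedralGroup n))

/-- (R1), with (T5) as a hypothesis -/
theorem R1_of_core (hn : 3 ≤ n) (p : ℕ) [Fact p.Prime] (hpn : p ∣ n)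
    (href : ∀ T, S.IsSet T → ∀ j u : ZMod n, p • u = 0 → (sr j ∈ T ↔ sr (j + u) ∈ T))
    (hR1a : ∀ T : Finset (DihedralGroup n), S.IsSet T → PerOff p (rotPart T))
    (hT5 : ∀ P : Subgroup (DihedralGroup n), P ≠ ⊥ → P ≠ ⊤ →
      (∀ T : Finset (DihedralGroup n), S.IsSet T → ∀ x ∈ T, x ∉ P → ∀ k ∈ P, k * x ∈ T) →
      S.IsTriv) :
    S.IsTriv := by
  classical
  have hp : p.Prime := Fact.out
  -- the torsion subgroup is a proper non-trivial subgroup
  have hP : torP n p ≠ ⊥ := by
    obtain ⟨k, hk⟩ := hpn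
    have hk0 : 0 < k := by
      rcases Nat.eq_zero_or_pos k with h | h
      · rw [h, mul_zero] at hk; omega
      · exact h
    have hkn : k < n := by
      rw [hk]
      have := hp.two_le
      nlinarith
    intro hbot
    have hmem : r ((k : ℕ) : ZMod n) ∈ torP n p := by
      refine ⟨(k : ZMod n), ?_, rfl⟩
      rw [nsmul_eq_mul, ← Nat.cast_mul, ← hk, ZMod.natCast_self]
    rw [hbot, Subgroup.mem_bot] at hmem
    have h0 : ((k : ℕ) : ZMod n) = 0 := by
      have h1 : r ((k : ℕ) : ZMod n) = r 0 := by rw [hmem]; rfl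
      exact r.inj h1
    rw [ZMod.natCast_eq_zero_iff] at h0
    exact absurd (Nat.le_of_dvd hk0 h0) (by omega)
  have hP' : torP n p ≠ ⊤ := by
    intro htop
    have hmem : (sr 0 : DihedralGroup n) ∈ torP n p := by rw [htop]; exact Subgroup.mem_top _
    obtain ⟨u, _, hu⟩ := hmem
    cases hu
  refine hT5 (torP n p) hP hP' ?_
  intro T hT x hx hxP k hk
  obtain ⟨u, hu, rfl⟩ := hk
  cases x with
  | r i =>
    have hi : p • i ≠ 0 := fun h => hxP ⟨i, h, rfl⟩
    rw [r_mul_r, add_comm]
    have h1 := (hR1a T hT i u hu hi).mp (mem_rotPart.mpr hx)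
    exact mem_rotPart.mp h1
  | sr j =>
    rw [r_mul_sr, sub_eq_add_neg]
    have hu' : p • (-u) = 0 := by rw [smul_neg, hu, neg_zero]
    exact (href T hT j (-u) hu').mp hx

end Cfsg.Agent.Helper48.Sr
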