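import Cfsg.Agent.Helper61.Sr.P1
import Cfsg.Agent.Helper48.Sr.R1Core

/-!
# S3572 piece (R1_of), for helper61: periodic reflection parts force the trivial S-ring
-/

set_option autoImplicit false
set_option linter.unusedSectionVars false
set_option linter.unusedVariables false

namespace Cfsg.Agent.Helper48.Sr

open Finset DihedralGroup Cfsg.Agent.Helper61.Dih Cfsg.Agent.Helper61.Sr

variable {n : ℕ} [NeZero n] (S : SRing (DihedralGroup n))

/-- (R1) -/
theorem R1_of (hn : 3 ≤ n) (hS : S.IsPrim) (p : ℕ) [Fact p.Prime] (hpn : p ∣ n)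
    (href : ∀ T, S.IsSet T → ∀ j u : ZMod n, p • u = 0 → (sr j ∈ T ↔ sr (j + u) ∈ T))
    (hR1a : ∀ T : Finset (DihedralGroup n), S.IsSet T → PerOff p (rotPart T)) :
    S.IsTriv :=
  R1_of_core S hn p hpn href hR1a (fun P hP hP' hper => T5 S hS P hP hP' hper)

end Cfsg.Agent.Helper48.Sr
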